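/-
Actions of p-groups by automorphisms without common fixed points (helper70).

Main results (namespace `Cfsg.Agent.FPF`): `NoFix`, `Inv`, `quotAct`, `resAct`, `fixBy`, `noFix_quot`,
`not_dvd_card`, `exists_fixed_in_coset`, `eq_top_of_fixBy_le` (generation by the fixed subgroups of a group of
order `p^2` without common fixed points on a nilpotent group).
-/
import Cfsg.Agent.EqLemmas

set_option autoImplicit false

namespace Cfsg.Agent.FPF

variable {A G : Type*} [Group A] [Group G] (act : A →* MulAut G)

/-- The action has no common fixed point other than the identity. -/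
abbrev NoFix : Prop := ∀ g : G, (∀ a, act a g = g) → g = 1

/-- A subgroup invariant under the action. -/
abbrev Inv (H : Subgroup G) : Prop := ∀ a, ∀ x ∈ H, act a x ∈ H

theorem inv_apply_apply (a : A) (x : G) : act a⁻¹ (act a x) = x := by
  rw [← MulAut.mul_apply, ← map_mul, inv_mul_cancel, map_one]; rfl

theorem apply_inv_apply (a : A) (x : G) : act a (act a⁻¹ x) = x := by
  rw [← MulAut.mul_apply, ← map_mul, mul_inv_cancel, map_one]; rfl

theorem map_eq_of_inv {H : Subgroup G} (h : Inv act H) (a : A) :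
    H.map (act a).toMonoidHom = H :=
  le_antisymm (by rintro _ ⟨x, hx, rfl⟩; exact h a x hx)
    fun x hx => ⟨act a⁻¹ x, h a⁻¹ x hx, apply_inv_apply act a x⟩

theorem inv_of_characteristic (H : Subgroup G) [hH : H.Characteristic] : Inv act H := fun a _ hx =>
  (Subgroup.characteristic_iff_map_le.mp hH (act a)) ⟨_, hx, rfl⟩

theorem inv_sup {H K : Subgroup G} (hH : Inv act H) (hK : Inv act K) : Inv act (H ⊔ K) := by
  intro a x hx
  have h : (H ⊔ K).map (act a).toMonoidHom = H ⊔ K := by
    rw [Subgroup.map_sup, map_eq_of_inv act hH, map_eq_of_inv act hK]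
  exact h ▸ ⟨x, hx, rfl⟩

/-- The action on the quotient by an invariant normal subgroup. -/
def quotAct (N : Subgroup G) [N.Normal] (hN : Inv act N) : A →* MulAut (G ⧸ N) where
  toFun a := QuotientGroup.congr N N (act a) (map_eq_of_inv act hN a)
  map_one' := by
    ext q
    induction q using QuotientGroup.induction_on with
    | _ g => simp
  map_mul' a b := by
    ext q
    induction q using QuotientGroup.induction_on with
    | _ g =>
      show (((act (a * b)) g : G) : G ⧸ N) = ((act a (act b g) : G) : G ⧸ N)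
      rw [map_mul]; rfl

@[simp] theorem quotAct_mk (N : Subgroup G) [N.Normal] (hN : Inv act N) (a : A) (g : G) :
    quotAct act N hN a (g : G ⧸ N) = ((act a g : G) : G ⧸ N) := rfl

/-- The action restricted to an invariant subgroup. -/
def resAct (H : Subgroup G) (hH : Inv act H) : A →* MulAut H where
  toFun a :=
    { toFun := fun x => ⟨act a x, hH a x x.2⟩
      invFun := fun x => ⟨act a⁻¹ x, hH a⁻¹ x x.2⟩
      left_inv := fun x => Subtype.ext (inv_apply_apply act a x)
      right_inv := fun x => Subtype.ext (apply_inv_apply act a x)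
      map_mul' := fun x y => Subtype.ext (map_mul (act a) _ _) }
  map_one' := by ext x; simp
  map_mul' a b := by ext x; simp

@[simp] theorem resAct_apply (H : Subgroup G) (hH : Inv act H) (a : A) (x : H) :
    ((resAct act H hH a x : H) : G) = act a x := rfl

/-- The fixed points of one element. -/
def fixBy (c : A) : Subgroup G where
  carrier := {x | act c x = x}
  one_mem' := map_one _
  mul_mem' := by intro x y hx hy; show act c (x * y) = x * y; rw [map_mul, hx, hy]
  inv_mem' := by intro x hx; show act c x⁻¹ = x⁻¹; rw [map_inv, hx]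

theorem mem_fixBy {c : A} {x : G} : x ∈ fixBy act c ↔ act c x = x := Iff.rfl

theorem inv_fixBy (hcomm : ∀ a b : A, a * b = b * a) (c : A) : Inv act (fixBy act c) := by
  intro a x hx
  show act c (act a x) = act a x
  rw [← MulAut.mul_apply, ← map_mul, hcomm, map_mul, MulAut.mul_apply, (hx : act c x = x)]

/-- The pointwise stabilizer in `A` of an element of `G`. -/
def stabOf (x : G) : Subgroup A where
  carrier := {a | act a x = x}
  one_mem' := by show act 1 x = x; rw [map_one]; rfl
  mul_mem' := by intro a b ha hb; show act (a * b) x = x; rw [map_mul, MulAut.mul_apply, hb, ha]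
  inv_mem' := by intro a ha; show act a⁻¹ x = x; nth_rw 1 [← ha]; exact inv_apply_apply act a x

variable {p : ℕ} [Fact p.Prime]

theorem not_dvd_card [Finite G] (hA : IsPGroup p A) (hfix : NoFix act) : ¬ p ∣ Nat.card G := by
  letI : MulAction A G := MulAction.compHom G act
  intro hd
  have hone : Nat.card (MulAction.fixedPoints A G) = 1 := by
    rw [Nat.card_eq_one_iff_unique]
    exact ⟨⟨fun x y => Subtype.ext ((hfix _ fun a => x.2 a).trans (hfix _ fun a => y.2 a).symm)⟩,
      ⟨1, fun a => map_one (act a)⟩⟩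
  have := hA.card_modEq_card_fixedPoints G
  rw [hone, Nat.ModEq, Nat.mod_eq_zero_of_dvd hd,
    Nat.mod_eq_of_lt (Fact.out : p.Prime).one_lt] at this
  exact zero_ne_one this

theorem not_dvd_card_subgroup [Finite G] (hdvd : ¬ p ∣ Nat.card G) (N : Subgroup G) :
    ¬ p ∣ Nat.card N := fun h => hdvd (h.trans (Subgroup.card_subgroup_dvd_card N))

theorem exists_fixed_in_coset [Finite G] (hA : IsPGroup p A) (N : Subgroup G) [hNn : N.Normal]
    (hN : Inv act N) (hp : ¬ p ∣ Nat.card N) (g : G) (hg : ∀ a, g⁻¹ * act a g ∈ N) :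
    ∃ x, g⁻¹ * x ∈ N ∧ ∀ a, act a x = x := by
  let α := {x : G // g⁻¹ * x ∈ N}
  letI : MulAction A α :=
    { smul := fun a x => ⟨act a x.1, by
        have h := N.mul_mem (hg a) (hN a _ x.2)
        rw [map_mul, map_inv] at h
        simpa [mul_assoc] using h⟩
      one_smul := fun x => Subtype.ext (show act 1 x.1 = x.1 by rw [map_one]; rfl)
      mul_smul := fun a b x => Subtype.ext (show act (a * b) x.1 = act a (act b x.1) by rw [map_mul]; rfl) }
  have e : α ≃ N :=
    { toFun := fun x => ⟨g⁻¹ * x.1, x.2⟩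
      invFun := fun n => ⟨g * n, by simp⟩
      left_inv := fun x => by simp
      right_inv := fun n => by simp }
  obtain ⟨x, hx⟩ := hA.nonempty_fixed_point_of_prime_not_dvd_card α (by rwa [Nat.card_congr e])
  exact ⟨x.1, x.2, fun a => congrArg Subtype.val (hx a)⟩

theorem noFix_quot [Finite G] (hA : IsPGroup p A) (hfix : NoFix act) (N : Subgroup G) [N.Normal]
    (hN : Inv act N) : NoFix (quotAct act N hN) := by
  intro q hq
  induction q using QuotientGroup.induction_on with
  | _ g =>
    obtain ⟨x, hx, hxf⟩ := exists_fixed_in_coset act hA N hN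
      (not_dvd_card_subgroup (not_dvd_card act hA hfix) N) g
      (fun a => QuotientGroup.eq.mp (hq a).symm)
    rw [hfix x hxf, mul_one] at hx
    exact (QuotientGroup.eq_one_iff g).mpr (inv_inv g ▸ N.inv_mem hx)

theorem noFix_res (hfix : NoFix act) (H : Subgroup G) (hH : Inv act H) : NoFix (resAct act H hH) :=
  fun x hx => Subtype.ext (hfix _ fun a => congrArg Subtype.val (hx a))

/-! ### Groups of order `p^2` -/

section rank2

theorem pow_val_eq [Finite A] {x : A} (hx : x ^ p = 1) (n : ℕ) : x ^ n = x ^ (n % p) :=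
  pow_eq_pow_mod n hx

theorem exists_pow_mul_pow [Finite A] (hexp : ∀ x : A, x ^ p = 1) (hcard : Nat.card A = p ^ 2)
    (hcomm : ∀ x y : A, x * y = y * x) {a d : A} (ha : a ≠ 1) (hd : d ∉ Subgroup.zpowers a) (b : A) :
    ∃ i j : ℕ, b = a ^ i * d ^ j := by
  have hp : p.Prime := Fact.out
  have hd1 : d ≠ 1 := fun h => hd (h ▸ one_mem _)
  have hca : Nat.card (Subgroup.zpowers a) = p := by
    rw [Nat.card_zpowers, orderOf_eq_prime (hexp a) ha]
  have hcd : Nat.card (Subgroup.zpowers d) = p := by
    rw [Nat.card_zpowers, orderOf_eq_prime (hexp d) hd1]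
  let f : Subgroup.zpowers a × Subgroup.zpowers d → A := fun x => x.1.1 * x.2.1
  have hdis : Subgroup.zpowers a ⊓ Subgroup.zpowers d = ⊥ := by
    rcases (Nat.dvd_prime hp).mp (hcd ▸ Subgroup.card_dvd_of_le
      (inf_le_right : Subgroup.zpowers a ⊓ Subgroup.zpowers d ≤ Subgroup.zpowers d)) with h | h
    · exact Subgroup.eq_bot_of_card_eq _ h
    · exfalso
      have := Subgroup.eq_of_le_of_card_ge
        (inf_le_right : Subgroup.zpowers a ⊓ Subgroup.zpowers d ≤ Subgroup.zpowers d) (by rw [h, hcd])
      exact hd (this.ge (Subgroup.mem_zpowers d)).1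
  have finj : Function.Injective f := Subgroup.mul_injective_of_disjoint (disjoint_iff.mpr hdis)
  have hb := ((Nat.bijective_iff_injective_and_card f).mpr
    ⟨finj, by rw [Nat.card_prod, hca, hcd, hcard, sq]⟩).2 b
  obtain ⟨⟨⟨x, hx⟩, ⟨y, hy⟩⟩, rfl⟩ := hb
  obtain ⟨i, rfl⟩ := (mem_powers_iff_mem_zpowers.mpr hx)
  obtain ⟨j, rfl⟩ := (mem_powers_iff_mem_zpowers.mpr hy)
  exact ⟨i, j, rfl⟩

theorem act_eq_of_two (hexp : ∀ x : A, x ^ p = 1) [Finite A] (hcard : Nat.card A = p ^ 2)
    (hcomm : ∀ x y : A, x * y = y * x) {a d : A} (ha : a ≠ 1) (hd : d ∉ Subgroup.zpowers a)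
    (hfix : NoFix act) {x : G} (h1 : act a x = x) (h2 : act d x = x) : x = 1 := by
  refine hfix x fun b => ?_
  obtain ⟨i, j, rfl⟩ := exists_pow_mul_pow hexp hcard hcomm ha hd b
  exact Subgroup.mul_mem (stabOf act x) (Subgroup.pow_mem _ h1 i) (Subgroup.pow_mem _ h2 j)

open Finset in
/-- An abelian group on which a group of order `p^2` has no fixed points, all of whose non-trivial elements
act without fixed points, has exponent dividing `p`. -/
theorem pow_p_eq_one_of_fpf {M : Type*} [CommGroup M] (act' : A →* MulAut M) [Finite A]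
    (hexp : ∀ x : A, x ^ p = 1) (hcard : Nat.card A = p ^ 2) (hcomm : ∀ x y : A, x * y = y * x)
    (hfpf : ∀ c : A, c ≠ 1 → ∀ m, act' c m = m → m = 1) (m : M) : m ^ p = 1 := by
  have hp : p.Prime := Fact.out
  obtain ⟨a, ha⟩ : ∃ a : A, a ≠ 1 := by
    by_contra h
    push Not at h
    have : Nat.card A = 1 := Nat.card_eq_one_iff_unique.mpr ⟨⟨fun x y => by rw [h x, h y]⟩, ⟨1⟩⟩
    have := Nat.one_lt_pow two_ne_zero hp.one_lt
    omega
  have horda : orderOf a = p := orderOf_eq_prime (hexp a) ha
  obtain ⟨b, hb⟩ : ∃ b, b ∉ Subgroup.zpowers a := by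
    by_contra h
    push Not at h
    have h1 : Nat.card (Subgroup.zpowers a) = p := by rw [Nat.card_zpowers, horda]
    rw [(Subgroup.eq_top_iff' _).mpr h, Subgroup.card_top, hcard] at h1
    nlinarith [hp.two_le]
  haveI : NeZero p := ⟨hp.ne_zero⟩
  -- the product over a cyclic orbit is trivial
  have norm : ∀ c : A, c ≠ 1 → ∀ x : M, ∏ i : ZMod p, act' (c ^ i.val) x = 1 := by
    intro c hc x
    apply hfpf c hc
    rw [map_prod]
    refine Fintype.prod_equiv (Equiv.addRight (1 : ZMod p)) _ _ fun i => ?_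
    rw [← MulAut.mul_apply, ← map_mul]
    show act' (c * c ^ i.val) x = act' (c ^ (i + 1 : ZMod p).val) x
    rw [← pow_succ', pow_val_eq (hexp c) (i.val + 1), ZMod.val_add, ZMod.val_one_eq_one_mod, Nat.add_mod_mod]
  have hb1 : b ≠ 1 := fun h => hb (h ▸ one_mem _)
  have hab : ∀ i : ℕ, a * b ^ i ≠ 1 := by
    intro i h
    by_cases hi : b ^ i = 1
    · exact ha (by simpa [hi] using h)
    · apply hb
      have h1 : Subgroup.zpowers (b ^ i) = Subgroup.zpowers b := by
        apply Subgroup.eq_of_le_of_card_ge (Subgroup.zpowers_le.mpr (Subgroup.pow_mem _ (Subgroup.mem_zpowers b) i))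
        rw [Nat.card_zpowers, Nat.card_zpowers, orderOf_eq_prime (hexp b) hb1,
          orderOf_eq_prime (hexp _) hi]
      have h2 : b ^ i ∈ Subgroup.zpowers a := by
        rw [show b ^ i = a⁻¹ by exact eq_inv_of_mul_eq_one_right h]
        exact Subgroup.inv_mem _ (Subgroup.mem_zpowers a)
      exact (h1 ▸ Subgroup.zpowers_le.mpr h2) (Subgroup.mem_zpowers b)
  have h0 : ∏ i : ZMod p, ∏ j : ZMod p, act' ((a * b ^ i.val) ^ j.val) m = 1 :=
    Finset.prod_eq_one fun i _ => norm _ (hab _) m
  rw [Finset.prod_comm] at h0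
  rw [← h0]
  have hterm : ∀ i j : ZMod p, (a * b ^ i.val) ^ j.val = a ^ j.val * b ^ (i * j).val := by
    intro i j
    rw [(show Commute a (b ^ i.val) from hcomm _ _).mul_pow, ← pow_mul, pow_val_eq (hexp b), ← ZMod.val_mul]
  rw [Fintype.prod_eq_single (0 : ZMod p) (fun j hj => ?_)]
  · simp
  · simp only [hterm, map_mul, MulAut.mul_apply, ← map_prod]
    rw [← map_one (act' (a ^ j.val)), ← norm b hb1 m]
    congr 1
    exact Fintype.prod_equiv (Equiv.mulRight₀ j hj) _ _ fun i => rfl

/-- A nilpotent group is generated by the fixed subgroups of the non-trivial elements of a fixed-point-free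
group of order `p^2`. -/
theorem eq_top_of_fixBy_le [Finite G] [Finite A] [Group.IsNilpotent G] (hexp : ∀ x : A, x ^ p = 1)
    (hcard : Nat.card A = p ^ 2) (hcomm : ∀ x y : A, x * y = y * x) (hfix : NoFix act)
    {M : Subgroup G} (hM : ∀ c : A, c ≠ 1 → fixBy act c ≤ M) : M = ⊤ := by
  have hp : p.Prime := Fact.out
  have hApG : IsPGroup p A := fun x => ⟨1, by rw [pow_one]; exact hexp x⟩
  have hpG := not_dvd_card act hApG hfix
  -- the invariant subgroup generated by the fixed subgroups, extended by the derived subgroup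
  let M₀ : Subgroup G := ⨆ c : {c : A // c ≠ 1}, fixBy act c.1
  have hM₀ : Inv act M₀ := by
    intro a x hx
    have h : M₀.map (act a).toMonoidHom = M₀ := by
      rw [Subgroup.map_iSup]
      exact iSup_congr fun c => map_eq_of_inv act (inv_fixBy act hcomm c.1) a
    exact h ▸ ⟨x, hx, rfl⟩
  suffices hall : M₀ = ⊤ by
    rw [eq_top_iff, ← hall]; exact iSup_le fun c => hM c.1 c.2
  have hC : Inv act (commutator G) := inv_of_characteristic act _
  have hN : Inv act (M₀ ⊔ commutator G) := inv_sup act hM₀ hC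
  haveI hNn : (M₀ ⊔ commutator G).Normal := Subgroup.Normal.of_commutator_le _ le_sup_right
  have htop : M₀ ⊔ commutator G = ⊤ := by
    rw [Subgroup.eq_top_iff']
    intro g
    haveI : IsMulCommutative (G ⧸ (M₀ ⊔ commutator G)) :=
      Subgroup.Normal.quotient_commutative_iff_commutator_le.mpr le_sup_right
    letI : CommGroup (G ⧸ (M₀ ⊔ commutator G)) :=
      { (inferInstance : Group (G ⧸ (M₀ ⊔ commutator G))) with mul_comm := fun x y => mul_comm' x y }
    have hfpf : ∀ c : A, c ≠ 1 → ∀ q : G ⧸ (M₀ ⊔ commutator G),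
        quotAct act _ hN c q = q → q = 1 := by
      intro c hc q hq
      induction q using QuotientGroup.induction_on with
      | _ g =>
        let act' : Subgroup.zpowers c →* MulAut G := act.comp (Subgroup.zpowers c).subtype
        have hstab : ∀ a : Subgroup.zpowers c, g⁻¹ * act' a g ∈ M₀ ⊔ commutator G := by
          intro a
          obtain ⟨k, hk⟩ := (mem_powers_iff_mem_zpowers.mpr a.2)
          have : (a : A) ∈ stabOf (quotAct act _ hN) ((g : G) : G ⧸ (M₀ ⊔ commutator G)) :=
            hk ▸ Subgroup.pow_mem _ hq k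
          exact QuotientGroup.eq.mp (Eq.symm this)
        obtain ⟨x, hx, hxf⟩ := exists_fixed_in_coset act' (hApG.to_subgroup _) (M₀ ⊔ commutator G)
          (fun a => hN a.1) (not_dvd_card_subgroup hpG _) g hstab
        have hxM : x ∈ M₀ ⊔ commutator G := Subgroup.mem_sup_left
          (Subgroup.mem_iSup_of_mem (⟨c, hc⟩ : {c : A // c ≠ 1}) (show x ∈ fixBy act c from hxf ⟨c, Subgroup.mem_zpowers c⟩))
        rw [QuotientGroup.eq_one_iff]
        have := Subgroup.mul_mem _ hxM (Subgroup.inv_mem _ hx)
        simpa using this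
    have h1 := pow_p_eq_one_of_fpf _ hexp hcard hcomm hfpf ((g : G) : G ⧸ (M₀ ⊔ commutator G))
    rw [← QuotientGroup.eq_one_iff]
    have h2 : orderOf ((g : G) : G ⧸ (M₀ ⊔ commutator G)) ∣ p := orderOf_dvd_of_pow_eq_one h1
    rcases hp.eq_one_or_self_of_dvd _ h2 with h | h
    · exact orderOf_eq_one_iff.mp h
    · exfalso
      exact hpG ((h ▸ orderOf_dvd_natCard _).trans (Subgroup.card_quotient_dvd_card _))
  by_contra hne
  obtain ⟨K, hK, hMK⟩ := (eq_top_or_exists_le_coatom M₀).resolve_left hne
  haveI : K.Normal := Subgroup.NormalizerCondition.normal_of_coatom K Group.normalizerCondition_of_isNilpotent hK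
  have hCK : commutator G ≤ K := by
    haveI : IsSimpleGroup (G ⧸ K) := by
      haveI : Nontrivial (G ⧸ K) := QuotientGroup.nontrivial_iff.mpr hK.1
      refine ⟨fun H _ => ?_⟩
      have hle : K ≤ H.comap (QuotientGroup.mk' K) := by
        intro x hx
        show ((x : G) : G ⧸ K) ∈ H
        rw [(QuotientGroup.eq_one_iff x).mpr hx]; exact one_mem _
      rcases hle.eq_or_lt with h | h
      · left
        rw [← Subgroup.map_comap_eq_self_of_surjective (QuotientGroup.mk'_surjective K) H, ← h,
          QuotientGroup.map_mk'_self]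
      · right
        rw [← Subgroup.map_comap_eq_self_of_surjective (QuotientGroup.mk'_surjective K) H, hK.2 _ h]
        exact Subgroup.map_top_of_surjective _ (QuotientGroup.mk'_surjective K)
    haveI : Group.IsNilpotent (G ⧸ K) := inferInstance
    haveI : IsMulCommutative (G ⧸ K) :=
      ⟨⟨IsSimpleGroup.comm_iff_isSolvable.mpr inferInstance⟩⟩
    exact Subgroup.Normal.quotient_commutative_iff_commutator_le.mp inferInstance
  exact hK.1 (top_le_iff.mp (htop ▸ sup_le hMK hCK))

end rank2

end Cfsg.Agent.FPF
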