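/-
The operator identity for fixed-point-free actions on modules (helper70).

Main results (namespace `Cfsg.Agent.FPF`): `opRing`, `gen`, `opConj`, `prod_sub_eq_zero`, `exists_fix`,
`eq_zero_of_points`, `rho_eq_one_of_cyclic`.
-/
import Cfsg.Agent.Lib.FPF.Basic

set_option autoImplicit false

namespace Cfsg.Agent.FPF

universe u v w

variable {A : Type u} {Z : Type w} {V : Type v} [Group A] [CommGroup Z] [AddCommGroup V]
  (ρ : Z →* AddMonoid.End V)

/-- The subring of endomorphisms generated by the operators of `Z`. -/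
def opRing : Subring (AddMonoid.End V) := Subring.closure (Set.range ρ)

/-- The operators as elements of `opRing`. -/
def gen : Z →* opRing ρ where
  toFun z := ⟨ρ z, Subring.subset_closure ⟨z, rfl⟩⟩
  map_one' := Subtype.ext (map_one ρ)
  map_mul' a b := Subtype.ext (map_mul ρ a b)

@[simp] theorem coe_gen (z : Z) : ((gen ρ z : opRing ρ) : AddMonoid.End V) = ρ z := rfl

theorem gen_comm : ∀ x ∈ Set.range ρ, ∀ y ∈ Set.range ρ, x * y = y * x := by
  rintro _ ⟨a, rfl⟩ _ ⟨b, rfl⟩
  rw [← map_mul, ← map_mul, mul_comm]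

theorem commute_opRing {D : AddMonoid.End V} (hD : ∀ z, Commute D (ρ z)) (r : opRing ρ) :
    Commute D (r : AddMonoid.End V) := by
  have : opRing ρ ≤ Subring.centralizer {D} := by
    refine Subring.closure_le.mpr ?_
    rintro _ ⟨z, rfl⟩
    rw [SetLike.mem_coe, Subring.mem_centralizer_iff]
    intro g hg
    rw [Set.mem_singleton_iff.mp hg]
    exact hD z
  exact Subring.mem_centralizer_iff.mp (this r.2) D rfl

/-- Conjugation by an invertible endomorphism normalizing the operators. -/
def opConj (U U' : AddMonoid.End V) (h1 : U * U' = 1) (h2 : U' * U = 1) (σ : Z → Z)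
    (hσ : ∀ z, U * ρ z * U' = ρ (σ z)) : opRing ρ →+* opRing ρ where
  toFun r := ⟨U * r * U', by
    obtain ⟨x, hx⟩ := r
    show U * x * U' ∈ opRing ρ
    induction hx using Subring.closure_induction with
    | mem x hx => obtain ⟨z, rfl⟩ := hx; rw [hσ]; exact Subring.subset_closure ⟨_, rfl⟩
    | zero => rw [mul_zero, zero_mul]; exact zero_mem _
    | one => rw [mul_one, h1]; exact one_mem _
    | add x y _ _ ihx ihy => rw [mul_add, add_mul]; exact add_mem ihx ihy
    | neg x _ ih => rw [mul_neg, neg_mul]; exact neg_mem ih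
    | mul x y _ _ ihx ihy =>
      have : U * (x * y) * U' = U * x * U' * (U * y * U') := by
        simp only [mul_assoc]; rw [← mul_assoc U' U, h2, one_mul]
      rw [this]; exact mul_mem ihx ihy⟩
  map_one' := Subtype.ext (by show U * 1 * U' = 1; rw [mul_one, h1])
  map_mul' x y := Subtype.ext (by
    show U * ((x : AddMonoid.End V) * y) * U' = U * x * U' * (U * y * U')
    simp only [mul_assoc]; rw [← mul_assoc U' U, h2, one_mul])
  map_zero' := Subtype.ext (by show U * 0 * U' = 0; rw [mul_zero, zero_mul])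
  map_add' x y := Subtype.ext (by
    show U * ((x : AddMonoid.End V) + y) * U' = U * x * U' + U * y * U'
    rw [mul_add, add_mul])

theorem opConj_gen (U U' : AddMonoid.End V) (h1 : U * U' = 1) (h2 : U' * U = 1) (σ : Z → Z)
    (hσ : ∀ z, U * ρ z * U' = ρ (σ z)) (z : Z) :
    opConj ρ U U' h1 h2 σ hσ (gen ρ z) = gen ρ (σ z) := Subtype.ext (hσ z)

variable (act : A →* MulAut Z) (S : A →* AddMonoid.End V)

/-- From a relation `∑_{a ∈ I} D (a v) = 0` and a choice of elements `f t` one gets
`D ∏_{t ∈ I, t ≠ 1} (f t - t (f t)) = 0`. A ring homomorphism to a domain killing the annihilator of `D`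
is therefore fixed by some `t ≠ 1` in `I`. -/
theorem exists_fix (hS : ∀ a z v, S a (ρ z v) = ρ (act a z) (S a v)) (I : Finset A) (h1 : 1 ∈ I)
    (D : AddMonoid.End V) (hD : ∀ z, Commute D (ρ z)) (hI : ∀ v, ∑ a ∈ I, D (S a v) = 0)
    {L : Type*} [CommRing L] [IsDomain L] (φ : opRing ρ →+* L)
    (hφ : ∀ r : opRing ρ, D * (r : AddMonoid.End V) = 0 → φ r = 0) :
    ∃ t ∈ I, t ≠ 1 ∧ ∀ z, φ (gen ρ (act t z)) = φ (gen ρ z) := by
  classical
  letI : CommRing (opRing ρ) :=
    { (inferInstance : Ring (opRing ρ)) with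
      mul_comm := fun x y => Subtype.ext
        ((commute_opRing ρ (fun z => (commute_opRing ρ
          (fun w => (gen_comm ρ _ ⟨z, rfl⟩ _ ⟨w, rfl⟩ : ρ z * ρ w = ρ w * ρ z)) x).symm) y).eq) }
  by_contra hne
  push Not at hne
  choose! f hf using hne
  let c : Finset A → A → opRing ρ := fun T a =>
    ∏ t ∈ T, (gen ρ (act a (f t)) - gen ρ (act t (f t)))
  have key : ∀ T : Finset A, ∀ v, ∑ a ∈ I, D ((c T a : AddMonoid.End V) (S a v)) = 0 := by
    intro T
    induction T using Finset.induction_on with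
    | empty => intro v; simpa [c] using hI v
    | insert t T ht ih =>
      intro v
      have h1 := ih (ρ (f t) v)
      have h2 := congrArg (ρ (act t (f t))) (ih v)
      rw [map_sum, map_zero] at h2
      have hcm : ∀ w, ρ (act t (f t)) (D w) = D (ρ (act t (f t)) w) := fun w =>
        (DFunLike.congr_fun (hD (act t (f t))).eq w).symm
      rw [← sub_eq_zero.mpr (h1.trans h2.symm), ← Finset.sum_sub_distrib]
      refine Finset.sum_congr rfl fun a _ => ?_
      have hc : (c (insert t T) a) = c T a * gen ρ (act a (f t)) - gen ρ (act t (f t)) * c T a := by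
        show ∏ x ∈ insert t T, _ = _
        rw [Finset.prod_insert ht]
        ring
      rw [hc, hS, hcm, ← map_sub]
      rfl
  have hz : D * ((c (I.erase 1) 1 : opRing ρ) : AddMonoid.End V) = 0 := by
    refine AddMonoidHom.ext fun v => ?_
    have h := key (I.erase 1) v
    rw [Finset.sum_eq_single_of_mem (1 : A) h1 (fun a ha ha1 => ?_)] at h
    · rw [map_one] at h; exact h
    · have : c (I.erase 1) a = 0 :=
        Finset.prod_eq_zero (Finset.mem_erase.mpr ⟨ha1, ha⟩) (sub_self _)
      rw [this]; exact map_zero D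
  have := hφ _ hz
  simp only [c, map_prod, Finset.prod_eq_zero_iff, map_sub, sub_eq_zero, map_one] at this
  obtain ⟨t, ht, he⟩ := this
  obtain ⟨ht1, htI⟩ := Finset.mem_erase.mp ht
  exact hf t htI ht1 he.symm

/-- An operator killed by every point of the annihilator ideal of `D` is killed by `D`. -/
theorem eq_zero_of_points [Finite Z] {l : ℕ} (hl : l.Prime) (hchar : ∀ v : V, l • v = 0)
    (hcop : l.Coprime (Nat.card Z)) (D : AddMonoid.End V) (hD : ∀ z, Commute D (ρ z)) (r : opRing ρ)
    (h : ∀ (L : Type v) [CommRing L] [IsDomain L] (φ : opRing ρ →+* L),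
      (∀ x : opRing ρ, D * (x : AddMonoid.End V) = 0 → φ x = 0) → φ r = 0) :
    D * (r : AddMonoid.End V) = 0 := by
  classical
  letI : CommRing (opRing ρ) :=
    { (inferInstance : Ring (opRing ρ)) with
      mul_comm := fun x y => Subtype.ext
        ((commute_opRing ρ (fun z => (commute_opRing ρ
          (fun w => (gen_comm ρ _ ⟨z, rfl⟩ _ ⟨w, rfl⟩ : ρ z * ρ w = ρ w * ρ z)) x).symm) y).eq) }
  let J : Ideal (opRing ρ) :=
    { carrier := {x | D * (x : AddMonoid.End V) = 0}
      add_mem' := by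
        intro x y hx hy
        show D * ((x : AddMonoid.End V) + y) = 0
        rw [mul_add, hx, hy, add_zero]
      zero_mem' := mul_zero D
      smul_mem' := by
        intro c x hx
        show D * ((c : AddMonoid.End V) * x) = 0
        rw [← mul_assoc, (commute_opRing ρ hD c).eq, mul_assoc, (hx : D * (x : AddMonoid.End V) = 0), mul_zero] }
  show r ∈ J
  haveI : Fact l.Prime := ⟨hl⟩
  rcases subsingleton_or_nontrivial (opRing ρ) with hs | hn
  · rw [Subsingleton.elim r 0]; exact J.zero_mem
  have hl0 : (l : opRing ρ) = 0 := by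
    apply Subtype.ext
    refine AddMonoidHom.ext fun v => ?_
    show (l : AddMonoid.End V) v = 0
    rw [AddMonoid.End.natCast_apply]; exact hchar v
  haveI : CharP (opRing ρ) l := (CharP.charP_iff_prime_eq_zero hl).mpr hl0
  haveI : ExpChar (opRing ρ) l := ExpChar.prime hl
  set m := (Nat.card Z).totient with hm
  have hm0 : 0 < m := Nat.totient_pos.mpr Nat.card_pos
  have hmod : l ^ m ≡ 1 [MOD Nat.card Z] := Nat.ModEq.pow_totient hcop
  have hidem : ∀ x : opRing ρ, x ^ l ^ m = x := by
    rintro ⟨x, hx⟩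
    induction hx using Subring.closure_induction with
    | mem x hx =>
      obtain ⟨z, rfl⟩ := hx
      apply Subtype.ext
      show (ρ z) ^ l ^ m = ρ z
      rw [← map_pow]
      congr 1
      conv_rhs => rw [← pow_one z]
      exact pow_eq_pow_iff_modEq.mpr (hmod.of_dvd (orderOf_dvd_natCard z))
    | zero =>
      show (0 : opRing ρ) ^ l ^ m = 0
      exact zero_pow (pow_pos hl.pos m).ne'
    | one => exact one_pow _
    | add x y hx hy ihx ihy =>
      show ((⟨x, hx⟩ : opRing ρ) + ⟨y, hy⟩) ^ l ^ m = ⟨x, hx⟩ + ⟨y, hy⟩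
      rw [add_pow_expChar_pow, ihx, ihy]
    | neg x hx ih =>
      show (-(⟨x, hx⟩ : opRing ρ)) ^ l ^ m = -⟨x, hx⟩
      rw [← zero_sub, sub_pow_expChar_pow, ih, zero_pow (pow_pos hl.pos m).ne']
    | mul x y hx hy ihx ihy =>
      show ((⟨x, hx⟩ : opRing ρ) * ⟨y, hy⟩) ^ l ^ m = ⟨x, hx⟩ * ⟨y, hy⟩
      rw [mul_pow, ihx, ihy]
  have hrad : r ∈ J.radical := by
    rw [Ideal.radical_eq_sInf, Submodule.mem_sInf]
    rintro P ⟨hJP, hP⟩
    haveI := hP
    rw [← Ideal.Quotient.eq_zero_iff_mem]
    exact h _ (Ideal.Quotient.mk P) fun x hx => Ideal.Quotient.eq_zero_iff_mem.mpr (hJP hx)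
  obtain ⟨k, hk⟩ := hrad
  have hiter : ∀ n, r ^ (l ^ m) ^ n = r := by
    intro n
    induction n with
    | zero => rw [pow_zero, pow_one]
    | succ n ih => rw [pow_succ, pow_mul, ih, hidem]
  rw [← hiter k]
  have hkle : k ≤ (l ^ m) ^ k := (Nat.lt_pow_self (Nat.one_lt_pow hm0.ne' hl.one_lt)).le
  rw [← Nat.add_sub_cancel' hkle, pow_add]
  exact J.mul_mem_right _ hk

theorem sum_S_eq_zero [Fintype A] (hfixV : ∀ v, (∀ a, S a v = v) → v = 0) (v : V) :
    ∑ a, S a v = 0 := by
  apply hfixV
  intro b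
  rw [map_sum]
  refine Fintype.sum_equiv (Equiv.mulLeft b) _ _ fun a => ?_
  show S b (S a v) = S (b * a) v
  rw [map_mul]; rfl

/-- A group of prime order without fixed points on `Z` and `V` forces `Z` to act trivially. -/
theorem rho_eq_one_of_cyclic [Finite A] [Finite Z] {p : ℕ} [Fact p.Prime] (hA : Nat.card A = p)
    {l : ℕ} (hl : l.Prime) (hchar : ∀ v : V, l • v = 0) (hcop : l.Coprime (Nat.card Z))
    (hS : ∀ a z v, S a (ρ z v) = ρ (act a z) (S a v)) (hfix : NoFix act)
    (hfixV : ∀ v, (∀ a, S a v = v) → v = 0) (z : Z) : ρ z = 1 := by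
  classical
  have := Fintype.ofFinite A
  have hApG : IsPGroup p A := IsPGroup.of_card (n := 1) (by rw [hA, pow_one])
  have hp : ¬ p ∣ Nat.card Z := not_dvd_card act hApG hfix
  have h0 := eq_zero_of_points ρ hl hchar hcop 1 (fun z => Commute.one_left _) (gen ρ z - 1) ?_
  · rw [one_mul] at h0
    exact sub_eq_zero.mp h0
  intro L _ _ φ hφ
  obtain ⟨t, -, ht1, ht⟩ := exists_fix ρ act S hS Finset.univ (Finset.mem_univ 1) 1
    (fun z => Commute.one_left _) (fun v => sum_S_eq_zero S hfixV v) φ hφ
  have hall : ∀ a : A, φ (gen ρ (act a z)) = φ (gen ρ z) := by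
    intro a
    have hgen : a ∈ Subgroup.zpowers t := by
      have : Subgroup.zpowers t = ⊤ := by
        apply Subgroup.eq_top_of_card_eq
        rw [Nat.card_zpowers, hA]
        exact orderOf_eq_prime (hA ▸ pow_card_eq_one') ht1
      rw [this]; exact Subgroup.mem_top a
    obtain ⟨k, rfl⟩ := mem_powers_iff_mem_zpowers.mpr hgen
    clear hgen
    induction k with
    | zero => simp
    | succ k ih =>
      show φ (gen ρ (act (t ^ (k + 1)) z)) = _
      rw [pow_succ', map_mul, MulAut.mul_apply, ht]; exact ih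
  have hnorm : ∏ a : A, act a z = 1 := by
    apply hfix
    intro b
    rw [map_prod]
    exact Fintype.prod_equiv (Equiv.mulLeft b) _ _ fun a => by
      show act b (act a z) = act (b * a) z
      rw [map_mul]; rfl
  have h1 : φ (gen ρ z) ^ p = 1 := by
    have := congrArg ((φ : opRing ρ →* L).comp (gen ρ)) hnorm
    simp only [map_prod, map_one, MonoidHom.comp_apply, MonoidHom.coe_coe, hall] at this
    rwa [Finset.prod_const, Finset.card_univ, ← Nat.card_eq_fintype_card, hA] at this
  have h2 : φ (gen ρ z) ^ Nat.card Z = 1 := by rw [← map_pow, ← map_pow, pow_card_eq_one', map_one, map_one]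
  have h3 := pow_gcd_eq_one.mpr ⟨h1, h2⟩
  rw [((Fact.out : p.Prime).coprime_iff_not_dvd.mpr hp).gcd_eq_one, pow_one] at h3
  rw [map_sub, map_one, h3, sub_self]

end Cfsg.Agent.FPF
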