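/-
Chief factors for fixed-point-free actions of p-groups on solvable groups (helper70).

Main results (namespace `Cfsg.Agent.FPF`): `IsMinInv`, `exists_minInv`, `MinInv.commute`, `MinInv.exists_prime`,
`kerC`, `modRep`, `modS` and their properties, `isNilpotent_of_fpf_prime` (Thompson, solvable case).
-/
import Cfsg.Agent.Lib.FPF.Operator

set_option autoImplicit false

namespace Cfsg.Agent.FPF

variable {A G : Type*} [Group A] [Group G] (act : A →* MulAut G)

/-- A minimal invariant normal subgroup. -/
structure MinInv (V : Subgroup G) : Prop where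
  normal : V.Normal
  ne_bot : V ≠ ⊥
  invariant : Inv act V
  minimal : ∀ W : Subgroup G, W.Normal → W ≠ ⊥ → Inv act W → W ≤ V → W = V

theorem exists_minInv [Finite G] [Nontrivial G] : ∃ V : Subgroup G, MinInv act V := by
  obtain ⟨V, ⟨h1, h2, h3⟩, hmin⟩ := (wellFounded_lt (α := Subgroup G)).has_min
    {V : Subgroup G | V.Normal ∧ V ≠ ⊥ ∧ Inv act V}
    ⟨⊤, inferInstance, top_ne_bot, fun _ _ _ => Subgroup.mem_top _⟩
  refine ⟨V, h1, h2, h3, fun W a b c hle => ?_⟩
  by_contra h
  exact hmin W ⟨a, b, c⟩ (lt_of_le_of_ne hle h)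

theorem MinInv.commute {V : Subgroup G} (h : MinInv act V) (hG : Group.IsSolvable G) :
    ∀ x ∈ V, ∀ y ∈ V, x * y = y * x := by
  haveI := h.normal
  by_contra hna
  have hD : ⁅V, V⁆ = V := by
    refine h.minimal _ inferInstance ?_ ?_ (Subgroup.commutator_le_left V V)
    · intro hb
      exact hna fun x hx y hy =>
        Subgroup.mem_centralizer_iff.mp (Subgroup.commutator_eq_bot_iff_le_centralizer.mp hb hy) x hx
    · intro a x hx
      have h' : ⁅V, V⁆.map (act a).toMonoidHom = ⁅V, V⁆ := by
        rw [Subgroup.map_commutator, map_eq_of_inv act h.invariant]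
      exact h' ▸ ⟨x, hx, rfl⟩
  have hall : ∀ n, V ≤ derivedSeries G n := by
    intro n
    induction n with
    | zero => exact le_top
    | succ n ih => rw [← hD, derivedSeries_succ]; exact Subgroup.commutator_mono ih ih
  obtain ⟨n, hn⟩ := hG.solvable
  exact h.ne_bot (le_bot_iff.mp (hn ▸ hall n))

theorem MinInv.exists_prime [Finite G] {V : Subgroup G} (h : MinInv act V) (hG : Group.IsSolvable G) :
    ∃ l : ℕ, l.Prime ∧ ∀ x ∈ V, x ^ l = 1 := by
  have hc := h.commute act hG
  haveI := h.normal
  obtain ⟨l, hl, hdvd⟩ := Nat.exists_prime_and_dvd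
    (fun h1 => h.ne_bot (Subgroup.eq_bot_of_card_eq V h1) : Nat.card V ≠ 1)
  haveI : Fact l.Prime := ⟨hl⟩
  obtain ⟨x, hx⟩ := exists_prime_orderOf_dvd_card' l hdvd
  let W : Subgroup G :=
    { carrier := {v | v ∈ V ∧ v ^ l = 1}
      one_mem' := ⟨V.one_mem, one_pow l⟩
      mul_mem' := by
        rintro a b ⟨ha, ha'⟩ ⟨hb, hb'⟩
        exact ⟨V.mul_mem ha hb, by rw [(show Commute a b from hc a ha b hb).mul_pow, ha', hb', one_mul]⟩
      inv_mem' := by
        rintro a ⟨ha, ha'⟩
        exact ⟨V.inv_mem ha, by rw [inv_pow, ha', inv_one]⟩ }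
  have hW : W = V := by
    refine h.minimal W ⟨fun v hv g => ⟨h.normal.conj_mem v hv.1 g, by
      rw [conj_pow, hv.2, mul_one, mul_inv_cancel]⟩⟩ ?_ ?_ (fun v hv => hv.1)
    · intro hb
      have hxW : (x : G) ∈ W := ⟨x.2, by rw [← hx, ← Subgroup.orderOf_coe, pow_orderOf_eq_one]⟩
      rw [hb, Subgroup.mem_bot] at hxW
      rw [← Subgroup.orderOf_coe, hxW, orderOf_one] at hx
      exact hl.ne_one hx.symm
    · intro a v hv
      exact ⟨h.invariant a v hv.1, by rw [← map_pow, hv.2, map_one]⟩
  exact ⟨l, hl, fun v hv => (hW.ge hv).2⟩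

theorem inv_centralizer {V : Subgroup G} (hV : Inv act V) :
    Inv act (Subgroup.centralizer (V : Set G)) := by
  intro a x hx
  rw [Subgroup.mem_centralizer_iff]
  intro v hv
  have := congrArg (act a) (Subgroup.mem_centralizer_iff.mp hx _ (hV a⁻¹ v hv))
  rwa [map_mul, map_mul, apply_inv_apply] at this

section module

variable (V : Subgroup G) [V.Normal] [IsMulCommutative V]

open scoped IsMulCommutative

/-- The conjugation action on an abelian normal subgroup, as a module. -/
def conjRep : G →* AddMonoid.End (Additive V) where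
  toFun g := MonoidHom.toAdditive (MulAut.conjNormal g : MulAut V).toMonoidHom
  map_one' := by
    refine AddMonoidHom.ext fun v => ?_
    apply Additive.toMul.injective
    apply Subtype.ext
    show (1 : G) * ((v.toMul : V) : G) * (1 : G)⁻¹ = ((v.toMul : V) : G)
    group
  map_mul' a b := by
    refine AddMonoidHom.ext fun v => ?_
    apply Additive.toMul.injective
    apply Subtype.ext
    show (a * b) * ((v.toMul : V) : G) * (a * b)⁻¹ = a * (b * ((v.toMul : V) : G) * b⁻¹) * a⁻¹
    group

theorem conjRep_eq_one {g : G} (hg : g ∈ Subgroup.centralizer (V : Set G)) : conjRep V g = 1 := by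
  refine AddMonoidHom.ext fun v => ?_
  apply Additive.toMul.injective
  apply Subtype.ext
  show g * ((v.toMul : V) : G) * g⁻¹ = ((v.toMul : V) : G)
  rw [← Subgroup.mem_centralizer_iff.mp hg _ v.toMul.2, mul_assoc, mul_inv_cancel, mul_one]

/-- The module of `G / C_G(V)`. -/
def modRep : G ⧸ Subgroup.centralizer (V : Set G) →* AddMonoid.End (Additive V) :=
  QuotientGroup.lift _ (conjRep V) (fun _ hg => conjRep_eq_one V hg)

theorem modRep_mk (g : G) (v : Additive V) :
    (((modRep V (g : G ⧸ Subgroup.centralizer (V : Set G)) v).toMul : V) : G) =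
      g * (v.toMul : V) * g⁻¹ := rfl

theorem modRep_injective : Function.Injective (modRep V) := by
  rw [injective_iff_map_eq_one]
  intro q hq
  induction q using QuotientGroup.induction_on with
  | _ g =>
    rw [QuotientGroup.eq_one_iff, Subgroup.mem_centralizer_iff]
    intro v hv
    have := modRep_mk V g (Additive.ofMul ⟨v, hv⟩)
    rw [hq] at this
    exact eq_mul_inv_iff_mul_eq.mp this

variable (hV : Inv act V)

/-- The operators on the module. -/
def modS : A →* AddMonoid.End (Additive V) where
  toFun a := MonoidHom.toAdditive (resAct act V hV a).toMonoidHom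
  map_one' := by
    refine AddMonoidHom.ext fun v => ?_
    apply Additive.toMul.injective
    apply Subtype.ext
    show act 1 ((v.toMul : V) : G) = ((v.toMul : V) : G)
    rw [map_one]; rfl
  map_mul' a b := by
    refine AddMonoidHom.ext fun v => ?_
    apply Additive.toMul.injective
    apply Subtype.ext
    show act (a * b) ((v.toMul : V) : G) = act a (act b ((v.toMul : V) : G))
    rw [map_mul]; rfl

theorem modS_val (a : A) (v : Additive V) :
    (((modS act V hV a v).toMul : V) : G) = act a (v.toMul : V) := rfl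

theorem modS_compat (a : A) (q : G ⧸ Subgroup.centralizer (V : Set G)) (v : Additive V) :
    modS act V hV a (modRep V q v) =
      modRep V (quotAct act _ (inv_centralizer act hV) a q) (modS act V hV a v) := by
  induction q using QuotientGroup.induction_on with
  | _ g =>
    apply Additive.toMul.injective
    apply Subtype.ext
    show act a (g * (v.toMul : V) * g⁻¹) = act a g * act a (v.toMul : V) * (act a g)⁻¹
    simp

theorem modS_noFix (hfix : NoFix act) (v : Additive V) (h : ∀ a, modS act V hV a v = v) : v = 0 := by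
  apply Additive.toMul.injective
  apply Subtype.ext
  exact hfix _ fun a => by rw [← modS_val act V hV, h]

theorem mod_char {l : ℕ} (hl : ∀ x ∈ V, x ^ l = 1) (v : Additive V) : l • v = 0 := by
  apply Additive.toMul.injective
  apply Subtype.ext
  rw [toMul_nsmul, SubmonoidClass.coe_pow]
  exact hl _ v.toMul.2

theorem modRep_irred (hmin : MinInv act V) (Z : Subgroup (G ⧸ Subgroup.centralizer (V : Set G)))
    [hZn : Z.Normal] (hZ : Inv (quotAct act _ (inv_centralizer act hmin.invariant)) Z) (hne : Z ≠ ⊥)
    (v : Additive V) (hv : ∀ z ∈ Z, modRep V z v = v) : v = 0 := by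
  let K : Subgroup G := Z.comap (QuotientGroup.mk' _)
  let F : Subgroup G := V ⊓ Subgroup.centralizer (K : Set G)
  have hKinv : Inv act K := fun a x hx => hZ a _ hx
  haveI : K.Normal := hZn.comap _
  have hF : F = ⊥ := by
    by_contra h
    have hFinv : Inv act F := fun a x hx => ⟨hmin.invariant a x hx.1, inv_centralizer act hKinv a x hx.2⟩
    have hFV : F = V := hmin.minimal F inferInstance h hFinv inf_le_left
    apply hne
    rw [eq_bot_iff]
    intro q hq
    induction q using QuotientGroup.induction_on with
    | _ g =>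
      rw [Subgroup.mem_bot, QuotientGroup.eq_one_iff, Subgroup.mem_centralizer_iff]
      intro w hw
      exact (Subgroup.mem_centralizer_iff.mp (hFV.ge hw).2 g hq).symm
  apply Additive.toMul.injective
  apply Subtype.ext
  have hvF : ((v.toMul : V) : G) ∈ F := by
    refine ⟨v.toMul.2, Subgroup.mem_centralizer_iff.mpr fun k hk => ?_⟩
    have := modRep_mk V k v
    rw [hv ((k : G) : G ⧸ Subgroup.centralizer (V : Set G)) hk] at this
    exact (eq_mul_inv_iff_mul_eq.mp this).symm
  rw [hF, Subgroup.mem_bot] at hvF
  exact hvF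

/-- A normal invariant nontrivial subgroup has order prime to the characteristic of the module, if it is an
`r`-group. -/
theorem mod_prime_ne [Finite G] (hmin : MinInv act V) {l r : ℕ} [hl : Fact l.Prime] (hexp : ∀ x ∈ V, x ^ l = 1)
    (Z : Subgroup (G ⧸ Subgroup.centralizer (V : Set G))) [Z.Normal]
    (hZ : Inv (quotAct act _ (inv_centralizer act hmin.invariant)) Z) (hne : Z ≠ ⊥) (hr : IsPGroup r Z) :
    r ≠ l := by
  rintro rfl
  letI : MulAction Z (Additive V) := MulAction.compHom _ ((modRep V).comp Z.subtype)
  have hVp : IsPGroup r V := fun x => ⟨1, Subtype.ext (by rw [pow_one, SubmonoidClass.coe_pow]; exact hexp _ x.2)⟩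
  have hd : r ∣ Nat.card (Additive V) := by
    rw [Nat.card_congr Additive.toMul]
    obtain ⟨k, hk⟩ := IsPGroup.iff_card.mp hVp
    cases k with
    | zero => exact absurd (Subgroup.eq_bot_of_card_eq V (by simpa using hk)) hmin.ne_bot
    | succ k => rw [hk]; exact dvd_pow_self r k.succ_ne_zero
  have h0 : (0 : Additive V) ∈ MulAction.fixedPoints Z (Additive V) := fun z => map_zero (modRep V z)
  obtain ⟨b, hb, hb0⟩ := hr.exists_fixed_point_of_prime_dvd_card_of_fixed_point _ hd h0
  exact hb0 (modRep_irred act V hmin Z hZ hne b (fun z hz => hb ⟨z, hz⟩)).symm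

end module

theorem card_quot_lt [Finite G] {N : Subgroup G} [N.Normal] (h : N ≠ ⊥) :
    Nat.card (G ⧸ N) < Nat.card G := by
  have h1 := N.card_mul_index
  rw [Subgroup.index_eq_card] at h1
  have h2 : 1 < Nat.card N :=
    Finite.one_lt_card_iff_nontrivial.mpr ((Subgroup.nontrivial_iff_ne_bot N).mpr h)
  have h5 : 0 < Nat.card (G ⧸ N) := Nat.card_pos
  nlinarith

universe u

open scoped IsMulCommutative in

/-- Thompson's theorem in the solvable case: a fixed-point-free action of a group of prime order forces
nilpotency. -/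
theorem isNilpotent_of_fpf_prime {A : Type*} [Group A] [Finite A] {p : ℕ} [Fact p.Prime]
    (hA : Nat.card A = p) : ∀ (n : ℕ) (G : Type u) [Group G] [Finite G], Nat.card G ≤ n →
      Group.IsSolvable G → ∀ act : A →* MulAut G, NoFix act → Group.IsNilpotent G := by
  intro n
  induction n with
  | zero =>
    intro G _ _ hc
    have := Nat.card_pos (α := G)
    omega
  | succ n ih =>
    intro G _ _ hc hG act hfix
    rcases subsingleton_or_nontrivial G with hs | hnt
    · infer_instance
    have hApG : IsPGroup p A := IsPGroup.of_card (n := 1) (by rw [hA, pow_one])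
    haveI := hG
    obtain ⟨V, hV⟩ := exists_minInv act
    haveI := hV.normal
    haveI : IsMulCommutative V :=
      ⟨⟨fun a b => Subtype.ext (hV.commute act hG _ a.2 _ b.2)⟩⟩
    obtain ⟨l, hl, hexp⟩ := hV.exists_prime act hG
    haveI : Fact l.Prime := ⟨hl⟩
    have hN : Group.IsNilpotent (G ⧸ V) :=
      ih _ (by have := card_quot_lt hV.ne_bot; omega) inferInstance _ (noFix_quot act hApG hfix V hV.invariant)
    set C := Subgroup.centralizer (V : Set G) with hC
    have hCtop : C = ⊤ := by
      by_contra hne
      haveI : Nontrivial (G ⧸ C) := QuotientGroup.nontrivial_iff.mpr hne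
      set q := quotAct act C (inv_centralizer act hV.invariant) with hq
      have hqfix : NoFix q := noFix_quot act hApG hfix C _
      obtain ⟨Z, hZ⟩ := exists_minInv q
      haveI := hZ.normal
      obtain ⟨r, hr, hrexp⟩ := hZ.exists_prime q inferInstance
      haveI : Fact r.Prime := ⟨hr⟩
      have hZr : IsPGroup r Z := fun x => ⟨1, Subtype.ext (by rw [pow_one]; exact hrexp _ x.2)⟩
      have hrl : r ≠ l := mod_prime_ne act V hV hexp Z hZ.invariant hZ.ne_bot hZr
      obtain ⟨k, hk⟩ := IsPGroup.iff_card.mp hZr
      letI : CommGroup Z :=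
        { (inferInstance : Group Z) with
          mul_comm := fun a b => Subtype.ext (hZ.commute q inferInstance _ a.2 _ b.2) }
      apply hZ.ne_bot
      rw [eq_bot_iff]
      intro z hz
      have := rho_eq_one_of_cyclic ((modRep V).comp Z.subtype) (resAct q Z hZ.invariant)
        (modS act V hV.invariant) hA hl (mod_char V hexp)
        (hk ▸ Nat.Coprime.pow_right k ((Nat.coprime_primes hl hr).mpr hrl.symm))
        (fun a z v => modS_compat act V hV.invariant a z v) (noFix_res q hqfix Z hZ.invariant)
        (modS_noFix act V hV.invariant hfix) ⟨z, hz⟩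
      exact Subgroup.mem_bot.mpr (modRep_injective V (this.trans (map_one _).symm))
    haveI := hN
    refine Subgroup.isNilpotent_of_ker_le_center (QuotientGroup.mk' V) ?_
    rw [QuotientGroup.ker_mk']
    intro v hv
    rw [Subgroup.mem_center_iff]
    intro g
    exact (Subgroup.mem_centralizer_iff.mp (hCtop ▸ Subgroup.mem_top g : g ∈ C) v hv).symm

end Cfsg.Agent.FPF
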