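/-
Thompson's theorem: a finite group with a fixed-point-free action of a group of prime order is nilpotent.

Main results (namespace `Cfsg.Agent.FPF`): `nilpotent_of_fpf_prime` (no solvability hypothesis).
-/
import Cfsg.Agent.Lib.FPF.Chief
import Cfsg.Agent.Lib.PLocal.Functor
import Cfsg.Agent.Lib.Solvable.NilpotentHall
import Cfsg.Agent.S0117

set_option autoImplicit false
set_option linter.style.haveILetI false

namespace Cfsg.Agent.FPF

universe u

variable {A : Type*} [Group A]

theorem inv_normalizer {G : Type*} [Group G] (act : A →* MulAut G) {M : Subgroup G}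
    (hM : Inv act M) : Inv act (Subgroup.normalizer (M : Set G)) := by
  intro a x hx
  rw [Subgroup.mem_normalizer_iff] at hx ⊢
  intro y
  have hmem : ∀ (b : A) (z : G), act b z ∈ M ↔ z ∈ M := fun b z =>
    ⟨fun h => inv_apply_apply act b z ▸ hM b⁻¹ _ h, hM b z⟩
  have e : act a⁻¹ (act a x * y * (act a x)⁻¹) = x * act a⁻¹ y * x⁻¹ := by
    rw [map_mul, map_mul, map_inv (act a⁻¹), inv_apply_apply]
  rw [← hmem a⁻¹ (act a x * y * (act a x)⁻¹), e, ← hx, hmem]

theorem inv_of_map_eq {G : Type*} [Group G] (act : A →* MulAut G) {M : Subgroup G}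
    (h : ∀ a, M.map (act a).toMonoidHom = M) : Inv act M :=
  fun a x hx => (h a) ▸ ⟨x, hx, rfl⟩

/-- A group without invariant proper non-trivial normal subgroups with such an action has prime power order. -/
theorem solvable_of_no_invariant [Finite A] {p : ℕ} [Fact p.Prime] {G : Type u} [Group G] [Finite G]
    (act : A →* MulAut G) (hA : IsPGroup p A) (hfix : NoFix act)
    (hmin : ∀ N : Subgroup G, N.Normal → Inv act N → N = ⊥ ∨ N = ⊤)
    (hprop : ∀ H : Subgroup G, Inv act H → H ≠ ⊤ → Group.IsNilpotent H) : Group.IsSolvable G := by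
  classical
  by_cases h2 : ∀ q : ℕ, q.Prime → q ∣ Nat.card G → q = 2
  · obtain ⟨k, hk⟩ : ∃ k, Nat.card G = 2 ^ k :=
      ⟨_, Nat.eq_prime_pow_of_unique_prime_dvd Nat.card_pos.ne' fun {q} hq hd => h2 q hq hd⟩
    haveI := Fact.mk Nat.prime_two
    haveI := (IsPGroup.of_card hk).isNilpotent
    infer_instance
  simp only [not_forall] at h2
  obtain ⟨q, hq, hqd, hq2⟩ := h2
  haveI := Fact.mk hq
  letI : MulDistribMulAction A G := MulDistribMulAction.compHom G act
  have hnq : ¬ p ∣ Nat.card (Sylow q G) := fun h => by
    obtain ⟨Q⟩ := (inferInstance : Nonempty (Sylow q G))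
    exact not_dvd_card act hA hfix
      ((h.trans Q.card_dvd_index).trans (Subgroup.index_dvd_card _))
  obtain ⟨Q, hQfix⟩ := hA.nonempty_fixed_point_of_prime_not_dvd_card (Sylow q G) hnq
  have hQmap : ∀ a, (Q : Subgroup G).map (act a).toMonoidHom = Q := fun a => by
    have h1 := congrArg (fun S : Sylow q G => (S : Subgroup G)) (hQfix a)
    exact h1
  have hQinv : Inv act (Q : Subgroup G) := inv_of_map_eq act hQmap
  have hJmap : ∀ a, (Cfsg.centerThompsonOf q (Q : Subgroup G)).map (act a).toMonoidHom =
      Cfsg.centerThompsonOf q (Q : Subgroup G) := fun a => by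
    rw [PLocal.map_centerThompsonOf _ (fun x _ y _ h => (act a).injective h), hQmap a]
  have hN := inv_normalizer act (inv_of_map_eq act hJmap)
  by_cases htop : Subgroup.normalizer (Cfsg.centerThompsonOf q (Q : Subgroup G) : Set G) = ⊤
  · rcases hmin _ (Subgroup.normalizer_eq_top_iff.mp htop) (inv_of_map_eq act hJmap) with h | h
    · exfalso
      have hQne : (Q : Subgroup G) ≠ ⊥ := Q.ne_bot_of_dvd_card hqd
      haveI : Nontrivial (Q : Subgroup G) := (Subgroup.nontrivial_iff_ne_bot _).mpr hQne
      obtain ⟨z, hz, hz1⟩ := (Subgroup.nontrivial_iff_exists_ne_one _).mp Q.2.center_nontrivial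
      have hzq : IsPGroup q (Subgroup.center (Q : Subgroup G)) := Q.2.to_subgroup _
      obtain ⟨w, hw⟩ := exists_prime_orderOf_dvd_card' (G := Subgroup.center (Q : Subgroup G)) q (by
        obtain ⟨k, hk⟩ := IsPGroup.iff_card.mp hzq
        have : 1 < Nat.card (Subgroup.center (Q : Subgroup G)) :=
          Finite.one_lt_card_iff_nontrivial.mpr ((Subgroup.nontrivial_iff_exists_ne_one _).mpr ⟨z, hz, hz1⟩)
        rcases k with _ | k
        · simp [hk] at this
        · exact hk ▸ dvd_pow_self _ k.succ_ne_zero)
      have hwq : ((w.1.1 : G)) ^ q = 1 := by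
        have := pow_orderOf_eq_one w
        rw [hw] at this
        exact congrArg (fun u : Subgroup.center (Q : Subgroup G) => (u.1.1 : G)) this
      have hmem := PLocal.central_le_centerThompsonOf (p := q) (H := (Q : Subgroup G))
        ⟨w.1.2, fun y hy => congrArg Subtype.val (Subgroup.mem_center_iff.mp w.2 ⟨y, hy⟩)⟩ hwq
      rw [h, Subgroup.mem_bot] at hmem
      have : orderOf w = 1 := orderOf_eq_one_iff.mpr (Subtype.ext (Subtype.ext hmem))
      exact hq.ne_one (hw ▸ this)
    · have hQtop : (Q : Subgroup G) = ⊤ := by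
        refine top_le_iff.mp (h ▸ ?_)
        exact (inf_le_left).trans (PLocal.thompsonSubgroupOf_le _)
      haveI : Group.IsNilpotent G := by
        haveI := Q.2.isNilpotent
        have e : (Q : Subgroup G) ≃* G := (MulEquiv.subgroupCongr hQtop).trans Subgroup.topEquiv
        exact (Group.isNilpotent_congr e).mp inferInstance
      infer_instance
  · haveI := hprop _ hN htop
    obtain ⟨P, N, hNn, hc⟩ := (Cfsg.Agent.S0117.result hq2 Q).mpr
      (Solvable.hasNormalPComplement_of_isNilpotent)
    haveI := hNn
    have hNcard : Nat.card N = (P : Subgroup G).index := hc.index_eq_card.symm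
    have hNinv : Inv act N := by
      intro a x hx
      rw [← QuotientGroup.eq_one_iff (N := N), ← orderOf_eq_one_iff]
      have hcop : (orderOf (act a x)).Coprime (Nat.card (G ⧸ N)) := by
        rw [← Subgroup.index_eq_card, hc.symm.index_eq_card,
          show orderOf (act a x) = orderOf x from MulEquiv.orderOf_eq (act a) x]
        refine Nat.Coprime.coprime_dvd_left (Subgroup.orderOf_dvd_natCard N hx) ?_
        obtain ⟨k, hk⟩ := IsPGroup.iff_card.mp P.2
        rw [hk, hNcard]
        exact (hq.coprime_iff_not_dvd.mpr P.not_dvd_index).symm.pow_right k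
      exact Nat.eq_one_of_dvd_coprimes hcop
        (orderOf_map_dvd (QuotientGroup.mk' N) (act a x)) (orderOf_dvd_natCard _)
    rcases hmin N hNn hNinv with h | h
    · have hPtop : (P : Subgroup G) = ⊤ := by
        rw [← Subgroup.index_eq_one, ← hNcard, h, Subgroup.card_bot]
      haveI := P.2.isNilpotent
      haveI : Group.IsNilpotent G :=
        (Group.isNilpotent_congr ((MulEquiv.subgroupCongr hPtop).trans Subgroup.topEquiv)).mp inferInstance
      infer_instance
    · exfalso
      have := P.not_dvd_index
      rw [← hNcard, h, Subgroup.card_top] at this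
      exact this hqd

/-- **Thompson's theorem.** -/
theorem nilpotent_of_fpf_prime [Finite A] {p : ℕ} [Fact p.Prime] (hA : Nat.card A = p) :
    ∀ (G : Type u) [Group G] [Finite G] (act : A →* MulAut G), NoFix act → Group.IsNilpotent G := by
  suffices h : ∀ (n : ℕ) (G : Type u) [Group G] [Finite G], Nat.card G ≤ n →
      ∀ act : A →* MulAut G, NoFix act → Group.IsNilpotent G from
    fun G _ _ act hfix => h _ G le_rfl act hfix
  intro n
  induction n with
  | zero =>
    intro G _ _ hc
    have := Nat.card_pos (α := G)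
    omega
  | succ n ih =>
    intro G _ _ hc act hfix
    have hApG : IsPGroup p A := IsPGroup.of_card (n := 1) (by rw [hA, pow_one])
    have hprop : ∀ H : Subgroup G, Inv act H → H ≠ ⊤ → Group.IsNilpotent H := fun H hH hne =>
      ih H (by
        have h1 := H.card_le_card_group
        have h2 : Nat.card H ≠ Nat.card G := fun e => hne (Subgroup.eq_top_of_card_eq _ e)
        omega) (resAct act H hH) (noFix_res act hfix H hH)
    refine isNilpotent_of_fpf_prime hA _ G le_rfl ?_ act hfix
    by_cases hmin : ∀ N : Subgroup G, N.Normal → Inv act N → N = ⊥ ∨ N = ⊤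
    · exact solvable_of_no_invariant act hApG hfix hmin hprop
    simp only [not_forall, not_or] at hmin
    obtain ⟨N, hNn, hNi, hb, ht⟩ := hmin
    haveI := hNn
    haveI := hprop N hNi ht
    haveI : Group.IsNilpotent (G ⧸ N) :=
      ih _ (by have := card_quot_lt hb; omega) (quotAct act N hNi) (noFix_quot act hApG hfix N hNi)
    exact Group.isSolvable_of_ker_le_range N.subtype (QuotientGroup.mk' N) (by simp)

end Cfsg.Agent.FPF
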