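/-
Nilpotency of subgroups with a fixed-point-free conjugation action; Frobenius kernels.

Main results (namespace `Cfsg.Agent.FPF`): `isNilpotent_of_fpf_subgroup`, `isNilpotent_frobKernel`.
-/
import Cfsg.Agent.Lib.FPF.Thompson
import Cfsg.Agent.Lib.Frobenius.Kernel

set_option autoImplicit false
set_option linter.style.haveILetI false

namespace Cfsg.Agent.FPF

variable {G : Type*} [Group G] [Finite G]

/-- A normal subgroup with a non-trivial group acting fixed-point-freely on it is nilpotent. -/
theorem isNilpotent_of_fpf_subgroup {A K : Subgroup G} [K.Normal] (hA : A ≠ ⊥)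
    (h : Frobenius.FPF A K) : Group.IsNilpotent K := by
  haveI : Nontrivial A := (Subgroup.nontrivial_iff_ne_bot A).mpr hA
  obtain ⟨p, hp, hd⟩ := Nat.exists_prime_and_dvd
    (Finite.one_lt_card (α := A)).ne'
  haveI := Fact.mk hp
  obtain ⟨a, ha⟩ := exists_prime_orderOf_dvd_card' (G := A) p hd
  have hao : orderOf (a : G) = p := by rw [Subgroup.orderOf_coe]; exact ha
  refine nilpotent_of_fpf_prime (A := Subgroup.zpowers (a : G)) (p := p)
    (by rw [Nat.card_zpowers, hao]) K
    ((MulAut.conjNormal (H := K)).comp (Subgroup.zpowers (a : G)).subtype) ?_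
  intro g hg
  have ha1 : (a : G) ≠ 1 := fun e => hp.ne_one (by rw [← hao, e, orderOf_one])
  have h1 := congrArg Subtype.val (hg ⟨a, Subgroup.mem_zpowers _⟩)
  simp only [MonoidHom.comp_apply, Subgroup.coe_subtype, MulAut.conjNormal_apply] at h1
  exact Subtype.ext (h a a.2 ha1 g g.2 (mul_inv_eq_iff_eq_mul.mp h1))

/-- Frobenius kernels are nilpotent. -/
theorem isNilpotent_frobKernel {H : Subgroup G} (hH : Cfsg.IsFrobeniusComplement H) :
    Group.IsNilpotent (Frobenius.frobKernel hH) := by
  haveI := Frobenius.frobKernel_normal hH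
  refine isNilpotent_of_fpf_subgroup ?_ (Frobenius.fpf_frobKernel hH)
  intro h
  obtain ⟨x, hx, hx1⟩ := Frobenius.exists_ne_one_mem hH
  rw [h, Subgroup.mem_bot] at hx
  exact hx1 hx

end Cfsg.Agent.FPF
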